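import Cfsg.Agent.BlockNilp.PSolvable

/-!
# Constituents of `p'`-degree and indices of inertia groups
-/

set_option autoImplicit false
set_option linter.style.haveILetI false

open scoped ComplexConjugate

namespace Cfsg.Agent.BlockNilp

open Cfsg Cfsg.Agent.Char Cfsg.Agent.GlauberCorr

universe u

variable {G : Type u} [Group G] [Finite G] {p : ℕ} [hp : Fact p.Prime]

/-- An irreducible character of `p'`-degree of a subgroup of `p'`-index lies under one of
`p'`-degree. -/
theorem exists_over_not_dvd (J : Subgroup G) (hJ : ¬ p ∣ J.index) (ξ : IrrCharacter J)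
    (hξ : ¬ p ∣ charDegree (ξ : J → ℂ)) :
    ∃ χ : IrrCharacter G, ¬ p ∣ charDegree (χ : G → ℂ) ∧ homMult J.subtype χ ξ ≠ 0 := by
  classical
  letI := Fintype.ofFinite G
  letI := Fintype.ofFinite J
  obtain ⟨m, hm, hm'⟩ :=
    isCharacter_exists_coeff (CharInd.isCharacter_indFun J (isCharacter_of_irr ξ.2))
  have hdeg : J.index * charDegree (ξ : J → ℂ) =
      ∑ χ : IrrCharacter G, m χ * charDegree (χ : G → ℂ) := by
    have h1 := congrFun hm 1
    rw [CharInd.indFun_one_apply, Finset.sum_apply, (BlockVal.irr_one_eq_charDegree ξ).1] at h1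
    have h2 : ((J.index * charDegree (ξ : J → ℂ) : ℕ) : ℂ) =
        ((∑ χ : IrrCharacter G, m χ * charDegree (χ : G → ℂ) : ℕ) : ℂ) := by
      rw [Nat.cast_mul, h1, Nat.cast_sum]
      refine Finset.sum_congr rfl fun χ _ => ?_
      rw [Pi.smul_apply, nsmul_eq_mul, (BlockVal.irr_one_eq_charDegree χ).1, Nat.cast_mul]
    exact_mod_cast h2
  obtain ⟨χ, hχm, hχd⟩ : ∃ χ : IrrCharacter G, ¬ p ∣ m χ ∧ ¬ p ∣ charDegree (χ : G → ℂ) := by
    by_contra hcon
    push Not at hcon
    have hd : p ∣ J.index * charDegree (ξ : J → ℂ) := hdeg ▸ Finset.dvd_sum fun χ _ => by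
      by_cases hmd : p ∣ m χ
      · exact hmd.mul_right _
      · exact (hcon χ hmd).mul_left _
    rcases hp.out.dvd_mul.mp hd with h | h
    exacts [hJ h, hξ h]
  have hmult : homMult J.subtype χ ξ = m χ := by
    refine homMult_eq_of_classInner ?_
    have h1 := CharInd.classInner_indFun_left J (ξ : J → ℂ) (irr_isClassFunction χ.2)
    rw [hm'] at h1
    have h2 := congrArg conj h1
    rw [map_natCast, classInner_conj] at h2
    exact h2.symm
  exact ⟨χ, hχd, fun h0 => hχm (by rw [← hmult, h0]; exact dvd_zero p)⟩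

variable {q : ℕ}

/-- If all `p'`-degrees are `q'` then so is the inertia index of a constituent of a restriction
of a `p'`-degree character. -/
theorem not_dvd_inertia_index
    (hyp : ∀ χ : IrrCharacter G, ¬ p ∣ charDegree (χ : G → ℂ) → ¬ q ∣ charDegree (χ : G → ℂ))
    (R : Subgroup G) [R.Normal] (θ : IrrCharacter R) (J : Subgroup G) (hRJ : R ≤ J)
    (hJ : ¬ p ∣ J.index) (ξ : IrrCharacter J) (hξ : ¬ p ∣ charDegree (ξ : J → ℂ))
    (hover : homMult (Subgroup.inclusion hRJ) ξ θ ≠ 0) :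
    ¬ q ∣ (CharExt.inertia R (θ : R → ℂ)).index := by
  classical
  letI := Fintype.ofFinite G
  letI := Fintype.ofFinite R
  obtain ⟨χ, hχd, hχ⟩ := exists_over_not_dvd J hJ ξ hξ
  have h1 : homMult R.subtype χ θ ≠ 0 :=
    homMult_comp_ne_zero (f := J.subtype) (g := Subgroup.inclusion hRJ) hχ hover
  have h2 := classInner_comp_eq_homMult R.subtype χ θ
  obtain ⟨e, -, -, -, he⟩ := CharExt.clifford_data R χ.2 θ.2 (fun h => h1 (by
    rw [show (fun r : R => (χ : G → ℂ) r) = fun r : R => (χ : G → ℂ) (R.subtype r) from rfl, h2] at h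
    exact_mod_cast h))
  rw [(BlockVal.irr_one_eq_charDegree χ).1, (BlockVal.irr_one_eq_charDegree θ).1] at he
  have he' : charDegree (χ : G → ℂ) =
      e * (CharExt.inertia R (θ : R → ℂ)).index * charDegree (θ : R → ℂ) := by exact_mod_cast he
  intro hd
  exact hyp χ hχd (he' ▸ (hd.mul_left e).mul_right _)

/-- The case of an invariant character of a normal `p'`-subgroup. -/
theorem not_dvd_inertia_index_pPrime
    (hyp : ∀ χ : IrrCharacter G, ¬ p ∣ charDegree (χ : G → ℂ) → ¬ q ∣ charDegree (χ : G → ℂ))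
    (R : Subgroup G) [R.Normal] (hR : ¬ p ∣ Nat.card R) (P : Sylow p G) (θ : IrrCharacter R)
    (hθ : ∀ u ∈ (P : Subgroup G), CharInd.conjChar R u (θ : R → ℂ) = (θ : R → ℂ)) :
    ¬ q ∣ (CharExt.inertia R (θ : R → ℂ)).index := by
  classical
  set J := R ⊔ (P : Subgroup G) with hJdef
  have hRJ : R ≤ J := le_sup_left
  set RJ := R.subgroupOf J with hRJdef
  haveI : RJ.Normal := Subgroup.normal_subgroupOf
  let eR : RJ ≃* R := Subgroup.subgroupOfEquivOfLe hRJ
  let θJ : IrrCharacter RJ := irrComap eR θ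
  have hJT : J ≤ CharExt.inertia R (θ : R → ℂ) :=
    sup_le (CharExt.le_inertia R (irr_isClassFunction θ.2)) fun u hu => hθ u hu
  have hinv : ∀ (g : J) (n : RJ), (θJ : RJ → ℂ) (CharExt.cj RJ g n) = (θJ : RJ → ℂ) n :=
    fun g n => congrFun (CharExt.mem_inertia.mp (hJT g.2)) (eR n)
  obtain ⟨d, hd0, hd, hdvd⟩ := irr_degree_dvd_card θJ.2
  have hcard : Nat.card RJ = Nat.card R := Nat.card_congr eR.toEquiv
  obtain ⟨j, hj⟩ := IsPGroup.iff_card.mp P.isPGroup'
  have hidx : RJ.index ∣ p ^ j := by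
    rw [hRJdef, ← hj, hJdef]
    show R.relIndex (R ⊔ (P : Subgroup G)) ∣ _
    rw [Subgroup.relIndex_sup_left]
    exact Subgroup.relIndex_dvd_card R _
  have hcopR : Nat.Coprime RJ.index (Nat.card RJ) := by
    refine Nat.Coprime.coprime_dvd_left hidx ?_
    rw [hcard]
    exact (coprime_of_not_dvd hR).pow_left j
  set lam := (CharExt.detChar_isLin (θJ : RJ → ℂ)).toHom with hlam
  have hord : orderOf lam ∣ Nat.card RJ :=
    orderOf_dvd_of_pow_eq_one (MonoidHom.ext fun n => by
      show lam n ^ Nat.card RJ = 1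
      rw [← map_pow, pow_card_eq_one', map_one])
  obtain ⟨μ, ⟨hμ, -⟩, -⟩ := CharExt.exists_unique_coprime_extension RJ lam (fun g n => Units.ext (by
    show Cfsg.detChar (θJ : RJ → ℂ) _ = Cfsg.detChar (θJ : RJ → ℂ) n
    exact CharExt.detChar_inv RJ (isCharacter_of_irr θJ.2) hinv g n)) (hcopR.coprime_dvd_right hord)
  obtain ⟨ξ, hξ, hξres, -⟩ := CharExt.exists_char_extension RJ (θJ : RJ → ℂ) θJ.2 hinv d hd
    (hcopR.coprime_dvd_right hdvd) (fun g => (μ g : ℂ)) (CharExt.homVal_isLin μ)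
    (fun n => by rw [hμ]; rfl)
  refine not_dvd_inertia_index hyp R θ J hRJ ?_ ⟨ξ, hξ⟩ ?_ ?_
  · exact fun h => P.not_dvd_index (h.trans (Subgroup.index_dvd_of_le le_sup_right))
  · have hξd : charDegree ξ = d := charDegree_eq_of_nat (by
      rw [← hd, ← hξres 1, OneMemClass.coe_one])
    show ¬ p ∣ charDegree ξ
    rw [hξd]
    exact fun h => hR (hcard ▸ h.trans hdvd)
  · intro h0
    letI := Fintype.ofFinite R
    have h1 := classInner_comp_eq_homMult (Subgroup.inclusion hRJ) (⟨ξ, hξ⟩ : IrrCharacter J) θ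
    rw [h0, show (fun r : R => ((⟨ξ, hξ⟩ : IrrCharacter J) : J → ℂ) (Subgroup.inclusion hRJ r)) =
      (θ : R → ℂ) from funext fun r => (hξres (eR.symm r)).trans (congrArg _ (eR.apply_symm_apply r)),
      classInner_irr_self θ.2, Nat.cast_zero] at h1
    exact one_ne_zero h1

/-- The case of a linear character of a Sylow subgroup restricted to a normal `p`-subgroup. -/
theorem not_dvd_inertia_index_linear
    (hyp : ∀ χ : IrrCharacter G, ¬ p ∣ charDegree (χ : G → ℂ) → ¬ q ∣ charDegree (χ : G → ℂ))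
    (V : Subgroup G) [V.Normal] (P : Sylow p G) (hVP : V ≤ (P : Subgroup G))
    (f : ↥(P : Subgroup G) →* ℂˣ) :
    ¬ q ∣ (CharExt.inertia V (fun v : V => (f (Subgroup.inclusion hVP v) : ℂ))).index := by
  classical
  letI := Fintype.ofFinite V
  let μ : IrrCharacter V := ⟨_, isIrrCharacter_monoidHom (f.comp (Subgroup.inclusion hVP))⟩
  let ξ : IrrCharacter (P : Subgroup G) := ⟨_, isIrrCharacter_monoidHom f⟩
  refine not_dvd_inertia_index hyp V μ (P : Subgroup G) hVP P.not_dvd_index ξ ?_ ?_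
  · rw [charDegree_eq_of_nat (n := 1) (by simp [ξ])]
    exact hp.out.not_dvd_one
  · intro h0
    have h1 := classInner_comp_eq_homMult (Subgroup.inclusion hVP) ξ μ
    rw [h0, show (fun v : V => (ξ : ↥(P : Subgroup G) → ℂ) (Subgroup.inclusion hVP v)) = (μ : V → ℂ)
      from rfl, classInner_irr_self μ.2, Nat.cast_zero] at h1
    exact one_ne_zero h1

omit [Finite G] in
/-- Elements killed by all linear characters lie in the derived subgroup. -/
theorem mem_commutator_of_forall_hom (P : Subgroup G) [Finite P] (y : P)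
    (h : ∀ f : P →* ℂˣ, f y = 1) : (y : G) ∈ ⁅P, P⁆ := by
  have hy : y ∈ _root_.commutator P := by
    by_contra hne
    have hy₀ : Abelianization.of y ≠ 1 := fun h1 => hne (by rw [← Abelianization.ker_of]; exact h1)
    haveI : NeZero ((Monoid.exponent (Abelianization P) : ℕ) : ℂ) :=
      ⟨Nat.cast_ne_zero.mpr Monoid.exponent_ne_zero_of_finite⟩
    obtain ⟨φ, hφ⟩ :=
      CommGroup.exists_apply_ne_one_of_hasEnoughRootsOfUnity (Abelianization P) ℂ hy₀
    exact hφ (h (φ.comp Abelianization.of))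
  have h3 : ⁅P, P⁆ = (_root_.commutator P).map P.subtype := by
    rw [_root_.commutator, Subgroup.map_commutator, ← MonoidHom.range_eq_map, Subgroup.range_subtype]
  rw [h3]
  exact ⟨y, hy, rfl⟩

/-- For a normal subgroup `L`, the index of `T ∩ L` in `L` divides the index of `T`. -/
theorem relIndex_dvd_index_normal (T L : Subgroup G) [L.Normal] : T.relIndex L ∣ T.index := by
  have h1 : (T ⊓ L).relIndex L = T.relIndex L := Subgroup.inf_relIndex_right T L
  have h2 : (T ⊓ L).relIndex T = L.relIndex T := by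
    rw [inf_comm, Subgroup.inf_relIndex_right]
  have h3 : L.relIndex (T ⊔ L) = L.relIndex T := Subgroup.relIndex_sup_right T L
  have a1 := Subgroup.relIndex_mul_relIndex (⊥ : Subgroup G) (T ⊓ L) L bot_le inf_le_right
  have a2 := Subgroup.relIndex_mul_relIndex (⊥ : Subgroup G) (T ⊓ L) T bot_le inf_le_left
  have a3 := Subgroup.relIndex_mul_relIndex (⊥ : Subgroup G) T (T ⊔ L) bot_le le_sup_left
  have a4 := Subgroup.relIndex_mul_relIndex (⊥ : Subgroup G) L (T ⊔ L) bot_le le_sup_right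
  simp only [Subgroup.relIndex_bot_left, h1, h2, h3] at a1 a2 a3 a4
  have h4 : T.relIndex (T ⊔ L) = T.relIndex L := by
    refine Nat.eq_of_mul_eq_mul_left (Nat.card_pos (α := T)) ?_
    rw [a3, ← a4, ← a1, ← a2]
    ring
  rw [← h4]
  exact Dvd.intro _ (Subgroup.relIndex_mul_index le_sup_left)

end Cfsg.Agent.BlockNilp
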