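import Cfsg.Agent.GlauberCorr.Subgroups
import Cfsg.Agent.BlockVal.SquareSum
import Cfsg.Agent.Brauer.Kernel
import Cfsg.Agent.Brauer.RegElement
import Cfsg.Agent.Cores.Residual
import Cfsg.Agent.Cores.Basic
import Cfsg.Agent.Char.Linear

/-!
# Linear `p'`-degree characters in the principal block and normal `p`-complements
-/

set_option autoImplicit false
set_option linter.style.haveILetI false

open scoped ComplexConjugate

namespace Cfsg.Agent.BlockNilp

open Cfsg Cfsg.Agent.Char Cfsg.Agent.GlauberCorr

universe u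

variable {G : Type u} [Group G] [Finite G] {p : ℕ} [hp : Fact p.Prime] {M : Ideal AlgInt}

theorem trivial_mem (hM : IsPModular p M) : trivialIrr G ∈ principalBlock M G := by
  haveI : M.IsPrime := hM.2.1.isPrime
  intro g
  rw [show centralChar (fun _ : G => (1 : ℂ)) g -
    centralChar ((trivialIrr G : IrrCharacter G) : G → ℂ) g = 0 from sub_self _]
  exact Block.memLocalIdeal_zero

theorem charDegree_trivial : charDegree ((trivialIrr G : IrrCharacter G) : G → ℂ) = 1 :=
  charDegree_eq_of_nat (by rw [Nat.cast_one]; rfl)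

theorem height_zero_principal_iff (hM : IsPModular p M) {χ : IrrCharacter G}
    (hχ : χ ∈ principalBlock M G) :
    blockHeight p (principalBlock M G) (χ : G → ℂ) = 0 ↔ ¬ p ∣ charDegree (χ : G → ℂ) := by
  rw [BlockVal.blockHeight_eq_zero_iff hχ]
  constructor
  · intro h hd
    have h1 := h _ (trivial_mem hM)
    rw [charDegree_trivial, Nat.factorization_one, Finsupp.zero_apply, Nat.le_zero] at h1
    exact (hp.out.factorization_pos_of_dvd (BlockVal.irr_one_eq_charDegree χ).2 hd).ne' h1
  · intro h ψ _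
    rw [Nat.factorization_eq_zero_of_not_dvd h]
    exact Nat.zero_le _

/-- A nonidentity `p`-subgroup normalised by a `p`-group has a nontrivial invariant linear
character. -/
theorem exists_inv_linear {K A : Type u} [Group K] [Finite K] [Group A] (φ : A →* MulAut K)
    (hA : IsPGroup p A) (hK : IsPGroup p K) [Nontrivial K] :
    ∃ lam : IrrCharacter K, (∀ a, irrPerm φ a lam = lam) ∧ (lam : K → ℂ) 1 = 1 ∧
      lam ≠ trivialIrr K := by
  classical
  letI := Fintype.ofFinite K
  haveI : NeZero p := ⟨hp.out.ne_zero⟩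
  have hsum := sum_congr_fixed hA (irrPerm φ)
    (fun χ : IrrCharacter K => (χ : K → ℂ) 1 * (χ : K → ℂ) 1)
    (fun χ => (irr_isIntegral χ 1).mul (irr_isIntegral χ 1)) (fun a χ => by
      show (χ : K → ℂ) (φ a⁻¹ 1) * (χ : K → ℂ) (φ a⁻¹ 1) = _
      rw [map_one])
  have h1 : ∑ χ : IrrCharacter K, (χ : K → ℂ) 1 * (χ : K → ℂ) 1 = (Nat.card K : ℂ) := by
    rw [← sum_irr_degree_sq]
    exact Finset.sum_congr rfl fun χ _ => (pow_two _).symm
  obtain ⟨j, hj⟩ := IsPGroup.iff_card.mp hK
  have hdvd : p ∣ Nat.card K := by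
    rw [hj]
    refine dvd_pow_self p fun h0 => ?_
    rw [h0, pow_zero] at hj
    exact (Finite.one_lt_card (α := K)).ne' hj
  rw [h1] at hsum
  by_contra hcon
  push Not at hcon
  refine hp.out.not_dvd_one (Congr.nat_dvd (p := p) (n := 1) ?_)
  have hstep : Congr p (∑ χ with (∀ a, irrPerm φ a χ = χ),
      if χ = trivialIrr K then (1 : ℂ) else 0)
      (∑ χ with (∀ a, irrPerm φ a χ = χ), (χ : K → ℂ) 1 * (χ : K → ℂ) 1) :=
    Congr.sum _ fun χ hχ => ?hterm
  refine ((Congr.of_eq ?_).trans (hstep.trans hsum.symm)).trans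
    ((Congr.of_eq (mul_one _).symm).trans (Congr.natMul_zero isIntegral_one hdvd))
  · rw [Finset.sum_eq_single (trivialIrr K)]
    rotate_left
    · intro b _ hb
      exact if_neg hb
    · intro h
      exact absurd (Finset.mem_filter.mpr ⟨Finset.mem_univ _, fun a => Subtype.ext (funext fun k => rfl)⟩) h
    · exact (Nat.cast_one (R := ℂ)).trans (if_pos rfl).symm
  case hterm =>
    by_cases hc : χ = trivialIrr K
    · rw [if_pos hc, hc]
      exact Congr.of_eq (mul_one (1 : ℂ)).symm
    · rw [if_neg hc]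
      obtain ⟨d, hd0, hd, hdK⟩ := irr_degree_dvd_card χ.2
      rw [hj] at hdK
      obtain ⟨i, hi, rfl⟩ := (Nat.dvd_prime_pow hp.out).mp hdK
      have hi0 : i ≠ 0 := fun h0 => hc (hcon χ (Finset.mem_filter.mp hχ).2 (by
        rw [hd, h0, pow_zero, Nat.cast_one]))
      rw [hd]
      exact (Congr.natMul_zero (isIntegral_of_nat _) (dvd_pow_self p hi0)).symm

/-- If the `p'`-degree characters of the principal block are linear then there is a normal
`p`-complement. -/
theorem hasNormalPComplement_of_linear (hM : IsPModular p M)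
    (hlin : ∀ χ : IrrCharacter G, χ ∈ principalBlock M G → ¬ p ∣ charDegree (χ : G → ℂ) →
      charDegree (χ : G → ℂ) = 1) : Cfsg.HasNormalPComplement p G := by
  classical
  haveI : M.IsPrime := hM.2.1.isPrime
  haveI : NeZero p := ⟨hp.out.ne_zero⟩
  letI := Fintype.ofFinite G
  set A := Cfsg.pResidual p G with hAdef
  haveI hAn : A.Normal := Cores.pResidual_normal_inst
  obtain ⟨k, hk⟩ := IsPGroup.iff_card.mp (Cores.isPGroup_quotient_pResidual (G := G) (p := p))
  rw [← Subgroup.index_eq_card, ← hAdef] at hk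
  obtain ⟨Q⟩ : Nonempty (Sylow p A) := inferInstance
  obtain ⟨P, hQP⟩ := (Q.isPGroup'.map A.subtype).exists_le_sylow
  set D : Subgroup A := (P : Subgroup G).subgroupOf A with hDdef
  have hDQ : D = Q := Q.3 (P.isPGroup'.comap_of_injective A.subtype A.subtype_injective)
    (fun x hx => hQP ⟨x, hx, rfl⟩)
  have hidxD : ¬ p ∣ D.index := hDQ ▸ Q.not_dvd_index
  have hDp : IsPGroup p D := hDQ ▸ Q.isPGroup'
  by_cases hD : D = ⊥
  · have hA' : ¬ p ∣ Nat.card A := by
      rw [hD, Subgroup.index_bot] at hidxD; exact hidxD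
    refine ⟨P, A, hAn, Subgroup.isComplement'_of_coprime ?_ ?_⟩
    · have h1 : Nat.card G = Nat.card A * p ^ k := by rw [← hk, Subgroup.card_mul_index]
      rw [P.card_eq_multiplicity, h1, Nat.factorization_mul Nat.card_pos.ne'
        (pow_ne_zero _ hp.out.ne_zero), Finsupp.add_apply,
        Nat.factorization_eq_zero_of_not_dvd hA', zero_add, hp.out.factorization_pow,
        Finsupp.single_eq_same]
    · rw [P.card_eq_multiplicity]
      exact ((coprime_of_not_dvd hA').pow_left _).symm
  exfalso
  haveI : Nontrivial D := (Subgroup.nontrivial_iff_ne_bot D).mpr hD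
  letI := Fintype.ofFinite A
  letI := Fintype.ofFinite D
  -- the action of `P`
  have hPA : (P : Subgroup G) ≤ Subgroup.normalizer (A : Set G) := by
    rw [Subgroup.normalizer_eq_top]; exact le_top
  set φA := conjAct (P : Subgroup G) A hPA with hφA
  have hDinv : ∀ a, ∀ x ∈ D, φA a x ∈ D := fun a x hx => by
    rw [hDdef, Subgroup.mem_subgroupOf] at hx ⊢
    exact (P : Subgroup G).mul_mem ((P : Subgroup G).mul_mem a.2 hx) ((P : Subgroup G).inv_mem a.2)
  set φD := subAut φA D hDinv
  obtain ⟨lam, hlam, hlam1, hlamne⟩ := exists_inv_linear φD P.isPGroup' hDp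
  -- the degree sum of the principal block
  have hB : IsPBlock M (principalBlock M A) := ⟨trivialIrr A, rfl⟩
  set S := Finset.univ.filter fun θ : IrrCharacter A => θ ∈ principalBlock M A with hS
  set T := ∑ θ ∈ S, charDegree (θ : A → ℂ) ^ 2 with hTdef
  have hTf : T.factorization p = (Nat.card D).factorization p := by
    rw [hTdef, hS, BlockVal.factorization_sum_sq hM hB (trivial_mem hM) (by
      rw [height_zero_principal_iff hM (trivial_mem hM), charDegree_trivial]
      exact hp.out.not_dvd_one), charDegree_trivial, Nat.factorization_one, Finsupp.zero_apply,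
      add_zero, ← D.card_mul_index, Nat.factorization_mul Nat.card_pos.ne'
        Subgroup.index_ne_zero_of_finite, Finsupp.add_apply,
      Nat.factorization_eq_zero_of_not_dvd hidxD, add_zero]
  -- the multiplicities
  have hvan : ∀ d : D, d ≠ 1 →
      ∑ θ ∈ S, (θ : A → ℂ) 1 * (θ : A → ℂ) (d : A) = 0 := by
    intro d hd
    have hord : p ∣ orderOf (d : A) := by
      obtain ⟨i, hi⟩ := IsPGroup.iff_orderOf.mp hDp d
      rw [Subgroup.orderOf_coe, hi]
      refine dvd_pow_self p fun h0 => hd ?_
      rw [h0, pow_zero, orderOf_eq_one_iff] at hi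
      exact hi
    have h0 := Brauer.blockCoeff_eq_zero_of_integral hM (principalBlock M A)
      (Block.blockCoeff_memLocalRing hB) hord
    rw [Block.blockCoeff_eq_sum, mul_eq_zero] at h0
    have h1 := congrArg conj (h0.resolve_left
      (inv_ne_zero (Nat.cast_ne_zero.mpr Nat.card_pos.ne')))
    rw [map_zero, map_sum] at h1
    refine Eq.trans (Finset.sum_congr rfl fun θ _ => ?_) h1
    rw [map_mul, Complex.conj_conj, (BlockVal.irr_one_eq_charDegree θ).1, Complex.conj_natCast]
  have hmult : (Nat.card D : ℂ) *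
      (∑ θ ∈ S, (charDegree (θ : A → ℂ) : ℂ) * (homMult D.subtype θ lam : ℂ)) = (T : ℂ) := by
    calc _ = ∑ θ ∈ S, (θ : A → ℂ) 1 * ∑ d : D, (θ : A → ℂ) (d : A) * conj ((lam : D → ℂ) d) := by
          rw [Finset.mul_sum]
          refine Finset.sum_congr rfl fun θ _ => ?_
          rw [← classInner_comp_eq_homMult, sum_mul_conj_eq_card_mul_classInner,
            (BlockVal.irr_one_eq_charDegree θ).1]
          simp only [Subgroup.coe_subtype]
          ring
      _ = ∑ d : D, conj ((lam : D → ℂ) d) *
          ∑ θ ∈ S, (θ : A → ℂ) 1 * (θ : A → ℂ) (d : A) := by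
          simp only [Finset.mul_sum]
          rw [Finset.sum_comm]
          exact Finset.sum_congr rfl fun d _ => Finset.sum_congr rfl fun θ _ => by ring
      _ = (T : ℂ) := by
          rw [Finset.sum_eq_single (1 : D)]
          · rw [hlam1, map_one, one_mul, hTdef]
            push_cast
            refine Finset.sum_congr rfl fun θ _ => ?_
            rw [pow_two, ← (BlockVal.irr_one_eq_charDegree θ).1]
          · intro d _ hd
            rw [hvan d hd, mul_zero]
          · exact fun h => absurd (Finset.mem_univ _) h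
  have hnot : ¬ p ∣ ∑ θ ∈ S, charDegree (θ : A → ℂ) * homMult D.subtype θ lam := by
    intro hd
    have hT' : Nat.card D * (∑ θ ∈ S, charDegree (θ : A → ℂ) * homMult D.subtype θ lam) = T := by
      exact_mod_cast hmult
    have hT0 : T ≠ 0 := by
      refine fun h => ?_
      have := (Finset.sum_eq_zero_iff.mp h) (trivialIrr A) (by simp [S, trivial_mem hM])
      rw [charDegree_trivial] at this
      simp at this
    have h2 : (Nat.card D).factorization p + 1 ≤ T.factorization p := by
      have hs0 : (∑ θ ∈ S, charDegree (θ : A → ℂ) * homMult D.subtype θ lam) ≠ 0 :=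
        fun h0 => hT0 (by rw [← hT', h0, mul_zero])
      rw [← hT', Nat.factorization_mul Nat.card_pos.ne' hs0, Finsupp.add_apply]
      have := hp.out.factorization_pos_of_dvd hs0 hd
      omega
    omega
  -- an invariant member of the block
  have hBinv : ∀ a θ, θ ∈ principalBlock M A → irrPerm φA a θ ∈ principalBlock M A := by
    intro a θ hθ
    rw [Brauer.mem_principalBlock_iff_regSum hM] at hθ ⊢
    convert hθ using 3
    · unfold Brauer.regSum
      refine Finset.sum_equiv (φA a⁻¹).toEquiv (fun x => ?_) fun x _ => rfl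
      simp [MulEquiv.orderOf_eq]
    · show (θ : A → ℂ) (φA a⁻¹ 1) = _
      rw [map_one]
  let f : IrrCharacter A → ℂ := fun θ =>
    if θ ∈ principalBlock M A then ((charDegree (θ : A → ℂ) * homMult D.subtype θ lam : ℕ) : ℂ)
    else 0
  have hf : ∀ a θ, f (irrPerm φA a θ) = f θ := by
    intro a θ
    have hiff : irrPerm φA a θ ∈ principalBlock M A ↔ θ ∈ principalBlock M A := by
      refine ⟨fun h => ?_, hBinv a θ⟩
      have := hBinv a⁻¹ _ h
      rwa [← Equiv.Perm.mul_apply, ← map_mul, inv_mul_cancel, map_one, Equiv.Perm.one_apply] at this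
    simp only [f, hiff]
    congr 2
    congr 1
    · exact charDegree_eq_of_nat (by
        show (θ : A → ℂ) (φA a⁻¹ 1) = _
        rw [map_one]; exact (BlockVal.irr_one_eq_charDegree θ).1)
    · conv_lhs => rw [← hlam a]
      exact homMult_perm D.subtype φA φD (fun _ _ => rfl) a θ lam
  have hsum := sum_congr_fixed P.isPGroup' (irrPerm φA) f
    (fun θ => by simp only [f]; split_ifs <;> [exact isIntegral_of_nat _; exact isIntegral_zero]) hf
  obtain ⟨θ, hθfix, hθB, hθdeg, hθm⟩ : ∃ θ : IrrCharacter A, (∀ a, irrPerm φA a θ = θ) ∧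
      θ ∈ principalBlock M A ∧ ¬ p ∣ charDegree (θ : A → ℂ) ∧ ¬ p ∣ homMult D.subtype θ lam := by
    by_contra hcon
    push Not at hcon
    refine hnot (Congr.nat_dvd (p := p) ?_)
    refine (Congr.of_eq ?_).trans (hsum.trans ((Congr.sum _ fun θ hθ => ?_).trans
      (Congr.of_eq Finset.sum_const_zero)))
    · rw [hS, Nat.cast_sum, Finset.sum_filter]
    · simp only [f]
      split_ifs with hm
      · refine (Congr.of_eq (mul_one _).symm).trans (Congr.natMul_zero isIntegral_one ?_)
        by_cases hd : p ∣ charDegree (θ : A → ℂ)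
        · exact hd.mul_right _
        · exact (hcon θ (Finset.mem_filter.mp hθ).2 hm hd).mul_left _
      · exact Congr.refl _
  -- extension to `G`
  have hθd := BlockVal.irr_one_eq_charDegree θ
  have hT : CharExt.inertia A (θ : A → ℂ) = ⊤ := by
    rw [← Subgroup.index_eq_one]
    refine Nat.eq_one_of_dvd_coprimes ((coprime_of_not_dvd P.not_dvd_index).pow_left k) ?_
      (Subgroup.index_dvd_of_le (fun x hx => ?_) (H := (P : Subgroup G)))
    · rw [← hk]
      exact Subgroup.index_dvd_of_le (CharExt.le_inertia A (irr_isClassFunction θ.2))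
    · rw [CharExt.mem_inertia]
      funext n
      have h1 := ((irrPerm_fixed_iff φA θ).mp hθfix) ⟨x, hx⟩ n
      rw [CharInd.conjChar_apply]
      exact h1
  have hinv : ∀ (g : G) (n : A), (θ : A → ℂ) (CharExt.cj A g n) = (θ : A → ℂ) n := fun g n =>
    congrFun (CharExt.mem_inertia.mp (hT ▸ Subgroup.mem_top g)) n
  set n' := (Nat.card G) / p ^ (Nat.card G).factorization p with hn'
  have hn'p : Nat.Coprime p n' := coprime_of_not_dvd (Nat.not_dvd_ordCompl hp.out Nat.card_pos.ne')
  have hhom : ∀ (μ : A →* ℂˣ) (a : A), μ a ^ n' = 1 := by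
    intro μ a
    have hle : A ≤ ((μ ^ n').ker).map A.subtype := by
      conv_lhs => rw [hAdef, Cfsg.pResidual]
      rw [Subgroup.closure_le]
      intro g hg
      have hgA : g ∈ A := Cores.mem_pResidual_of_coprime hg
      refine ⟨⟨g, hgA⟩, ?_, rfl⟩
      show μ ⟨g, hgA⟩ ^ n' = 1
      rw [← map_pow]
      have : (⟨g, hgA⟩ : A) ^ n' = 1 := Subtype.ext (by
        rw [Subgroup.coe_pow, Subgroup.coe_one, ← orderOf_dvd_iff_pow_eq_one]
        refine (Nat.Coprime.dvd_mul_left (n := n')
          ((hg : Nat.Coprime (orderOf g) p).pow_right ((Nat.card G).factorization p))).mp ?_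
        rw [hn', Nat.ordProj_mul_ordCompl_eq_self]
        exact orderOf_dvd_natCard g)
      rw [this, map_one]
    obtain ⟨b, hb, he⟩ := hle a.2
    cases Subtype.ext he
    exact hb
  set lam0 : A →* ℂˣ := (CharExt.detChar_isLin (θ : A → ℂ)).toHom with hlam0
  have hcop0 : Nat.Coprime A.index (orderOf lam0) := by
    rw [hk]
    exact (hn'p.pow_left k).coprime_dvd_right
      (orderOf_dvd_of_pow_eq_one (MonoidHom.ext fun a => hhom lam0 a))
  obtain ⟨μ, ⟨hμres, -⟩, -⟩ := CharExt.exists_unique_coprime_extension A lam0 (fun g n =>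
    Units.ext (by
      show Cfsg.detChar (θ : A → ℂ) _ = Cfsg.detChar (θ : A → ℂ) n
      exact CharExt.detChar_inv A (isCharacter_of_irr θ.2) hinv g n)) hcop0
  obtain ⟨χ, hχ, hχres, -⟩ := CharExt.exists_char_extension A (θ : A → ℂ) θ.2 hinv _ hθd.1
    (by rw [hk]; exact (coprime_of_not_dvd hθdeg).pow_left k) (fun g => (μ g : ℂ))
    (CharExt.homVal_isLin μ) (fun n => by rw [hμres]; rfl)
  have hχd : charDegree χ = charDegree (θ : A → ℂ) := charDegree_eq_of_nat (by
    have := hχres 1
    rw [OneMemClass.coe_one] at this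
    rw [this, hθd.1])
  have hχB : (⟨χ, hχ⟩ : IrrCharacter G) ∈ principalBlock M G := by
    rw [Brauer.mem_principalBlock_iff_regSum hM]
    rw [Brauer.mem_principalBlock_iff_regSum hM] at hθB
    convert hθB using 3
    · unfold Brauer.regSum
      refine (Finset.sum_bij (fun (a : A) _ => (a : G)) (fun a ha => ?_)
        (fun a _ b _ h => Subtype.ext h) (fun g hg => ?_) (fun a _ => ?_)).symm
      · simpa [Subgroup.orderOf_coe] using (Finset.mem_filter.mp ha).2
      · have hg' := (Finset.mem_filter.mp hg).2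
        exact ⟨⟨g, Cores.mem_pResidual_of_coprime (coprime_of_not_dvd hg').symm⟩,
          by simp [Subgroup.orderOf_mk, hg'], rfl⟩
      · show (θ : A → ℂ) a * _ = χ (a : G) * _
        rw [hχres]
    · have := hχres 1
      rw [OneMemClass.coe_one] at this
      exact this
  have hone : (θ : A → ℂ) 1 = 1 := by
    rw [hθd.1, ← hχd, hlin ⟨χ, hχ⟩ hχB (by rw [hχd]; exact hθdeg), Nat.cast_one]
  -- a linear character of `A` is trivial on `D`
  have hθlin := CharExt.isLin_of_isCharacter (isCharacter_of_irr θ.2) hone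
  have hθD : (fun d : D => (θ : A → ℂ) (D.subtype d)) = fun _ : D => (1 : ℂ) := by
    funext d
    obtain ⟨i, hi⟩ := IsPGroup.iff_orderOf.mp hDp d
    have h1 := hhom hθlin.toHom (d : A)
    have h2 : hθlin.toHom (d : A) ^ (p ^ i) = 1 := by
      rw [← map_pow, ← hi, ← Subgroup.coe_pow, pow_orderOf_eq_one]; simp
    have h3 := Nat.dvd_gcd (orderOf_dvd_of_pow_eq_one h1) (orderOf_dvd_of_pow_eq_one h2)
    rw [(hn'p.pow_left i).symm.gcd_eq_one, Nat.dvd_one, orderOf_eq_one_iff] at h3
    have h4 := CharExt.IsLin.toHom_apply hθlin (d : A)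
    rw [h3] at h4
    exact h4.symm
  have h0 := classInner_comp_eq_homMult D.subtype θ lam
  rw [hθD, classInner_irr_ne isIrrCharacter_const_one lam.2 (fun e => hlamne (Subtype.ext e.symm))]
    at h0
  exact hθm ((Nat.cast_eq_zero.mp h0.symm) ▸ dvd_zero p)

/-- All height zero characters of the principal block have one degree exactly for groups with a
normal `p`-complement. -/
theorem equal_degrees_iff (hM : IsPModular p M) :
    (∃ d : ℕ, ∀ χ : IrrCharacter G, χ ∈ principalBlock M G →
      blockHeight p (principalBlock M G) (χ : G → ℂ) = 0 → charDegree (χ : G → ℂ) = d) ↔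
      Cfsg.HasNormalPComplement p G := by
  classical
  haveI : M.IsPrime := hM.2.1.isPrime
  constructor
  · rintro ⟨d, hd⟩
    have hd1 : d = 1 := by
      rw [← hd _ (trivial_mem hM) ((height_zero_principal_iff hM (trivial_mem hM)).mpr
        (by rw [charDegree_trivial]; exact hp.out.not_dvd_one)), charDegree_trivial]
    exact hasNormalPComplement_of_linear hM fun χ hχ hp' =>
      (hd χ hχ ((height_zero_principal_iff hM hχ).mpr hp')).trans hd1
  · rintro ⟨P, N, hN, hc⟩
    haveI := hN
    letI := Fintype.ofFinite G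
    have hNidx : N.index = p ^ (Nat.card G).factorization p := by
      rw [hc.symm.index_eq_card, P.card_eq_multiplicity]
    refine ⟨1, fun χ hχ h0 => ?_⟩
    have hp' := (height_zero_principal_iff hM hχ).mp h0
    have hNp : ¬ p ∣ Nat.card N := by
      rw [← hc.index_eq_card]; exact P.not_dvd_index
    have hker : ∀ n ∈ N, (χ : G → ℂ) n = (χ : G → ℂ) 1 :=
      Brauer.trivialOn_of_sameBlock hM N hNp (χ := trivialIrr G) hχ (fun _ _ => rfl)
    obtain ⟨ψ, hψ, hg⟩ := irr_exists_descend χ.2 N hker
    obtain ⟨d, hd0, hd, hdvd⟩ := irr_degree_dvd_card hψ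
    rw [← Subgroup.index_eq_card, hNidx] at hdvd
    obtain ⟨i, hi, rfl⟩ := (Nat.dvd_prime_pow hp.out).mp hdvd
    have hχ1 : charDegree (χ : G → ℂ) = p ^ i := charDegree_eq_of_nat (by
      rw [hg 1, QuotientGroup.mk_one, hd])
    rw [hχ1] at hp' ⊢
    cases i with
    | zero => rfl
    | succ i => exact absurd (dvd_pow_self p (Nat.succ_ne_zero i)) hp'

end Cfsg.Agent.BlockNilp
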