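import Cfsg.Agent.BlockNilp.Degrees
import Cfsg.Agent.PSolv.HallHigman
import Cfsg.Agent.S4487

/-!
# The principal block of a `p`-solvable group; normal subgroups in kernels of `p'`-degree characters
-/

set_option autoImplicit false
set_option linter.style.haveILetI false

open scoped ComplexConjugate

namespace Cfsg.Agent.BlockNilp

open Cfsg Cfsg.Agent.Char Cfsg.Agent.GlauberCorr

universe u

variable {G : Type u} [Group G] [Finite G] {p : ℕ} [hp : Fact p.Prime]

theorem isPRegular_mk_iff (N : Subgroup G) [N.Normal] (hN : ¬ p ∣ Nat.card N) (g : G) :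
    ¬ p ∣ orderOf (g : G ⧸ N) ↔ ¬ p ∣ orderOf g := by
  refine ⟨fun h hd => ?_, fun h hd => h (hd.trans (orderOf_map_dvd (QuotientGroup.mk' N) g))⟩
  have h1 : orderOf g ∣ orderOf (g : G ⧸ N) * Nat.card N := by
    refine orderOf_dvd_of_pow_eq_one ?_
    have h2 : g ^ orderOf (g : G ⧸ N) ∈ N := by
      rw [← QuotientGroup.eq_one_iff, QuotientGroup.mk_pow, pow_orderOf_eq_one]
    rw [pow_mul]
    exact congrArg Subtype.val (pow_card_eq_one' (x := (⟨_, h2⟩ : N)))
  rcases hp.out.dvd_mul.mp (hd.trans h1) with h2 | h2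
  exacts [h h2, hN h2]

theorem regSum_inflate [Fintype G] (N : Subgroup G) [N.Normal] [Fintype (G ⧸ N)]
    (hN : ¬ p ∣ Nat.card N) (ψ : G ⧸ N → ℂ) :
    Brauer.regSum p (fun g : G => ψ g) (fun _ => 1) =
      (Nat.card N : ℂ) * Brauer.regSum p ψ (fun _ => 1) := by
  classical
  unfold Brauer.regSum
  simp only [map_one, mul_one]
  rw [Finset.mul_sum, ← Finset.sum_fiberwise_of_maps_to
    (g := fun g : G => (g : G ⧸ N)) (t := Finset.univ.filter fun x : G ⧸ N => ¬ p ∣ orderOf x)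
    (fun g hg => Finset.mem_filter.mpr ⟨Finset.mem_univ _,
      (isPRegular_mk_iff N hN g).mpr (Finset.mem_filter.mp hg).2⟩)]
  refine Finset.sum_congr rfl fun x hx => ?_
  rw [Finset.sum_congr rfl fun g hg => congrArg ψ (Finset.mem_filter.mp hg).2, Finset.sum_const,
    nsmul_eq_mul]
  congr 2
  obtain ⟨g₀, rfl⟩ := QuotientGroup.mk_surjective x
  rw [← Nat.card_eq_finsetCard]
  refine Nat.card_congr ⟨fun g => ⟨g₀⁻¹ * g.1, QuotientGroup.eq.mp
      ((Finset.mem_filter.mp g.2).2).symm⟩, fun n => ⟨g₀ * n.1, ?_⟩,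
    fun g => Subtype.ext (mul_inv_cancel_left _ _), fun n => Subtype.ext (inv_mul_cancel_left _ _)⟩
  have hmk : ((g₀ * n.1 : G) : G ⧸ N) = g₀ := by
    rw [QuotientGroup.mk_mul, (QuotientGroup.eq_one_iff (n.1 : G)).mpr n.2, mul_one]
  refine Finset.mem_filter.mpr ⟨Finset.mem_filter.mpr ⟨Finset.mem_univ _, ?_⟩, hmk⟩
  rw [← isPRegular_mk_iff N hN, hmk]
  exact (Finset.mem_filter.mp hx).2

/-- The principal block of a `p`-solvable group. -/
theorem mem_principalBlock_iff_of_pSolvable {M : Ideal AlgInt} (hM : IsPModular p M)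
    (hps : IsPSolvable p G) (χ : IrrCharacter G) :
    χ ∈ principalBlock M G ↔
      ∀ n ∈ pPrimeCore p G, (χ : G → ℂ) n = (χ : G → ℂ) 1 := by
  classical
  haveI : M.IsPrime := hM.2.1.isPrime
  letI := Fintype.ofFinite G
  set N := pPrimeCore p G
  letI := Fintype.ofFinite (G ⧸ N)
  have hN : ¬ p ∣ Nat.card N := Cores.not_dvd_card_pPrimeCore
  refine ⟨fun h => Brauer.trivialOn_of_sameBlock hM N hN (χ := trivialIrr G) h (fun _ _ => rfl),
    fun h => ?_⟩
  obtain ⟨ψ, hψ, hg⟩ := irr_exists_descend χ.2 N h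
  have hψB : (⟨ψ, hψ⟩ : IrrCharacter (G ⧸ N)) ∈ principalBlock M (G ⧸ N) := by
    have hO : pPrimeCore p (G ⧸ N) = ⊥ := Cores.pPrimeCore_quotient_pPrimeCore_eq_bot
    exact S4487.result p M hM hO
      (PSolv.centralizer_pCore_le (PSolv.isPSolvable_quotient hps N) hO) (trivialIrr (G ⧸ N)) ⟨ψ, hψ⟩
  rw [Brauer.mem_principalBlock_iff_regSum hM] at hψB ⊢
  intro hmem
  rw [show (χ : G → ℂ) = fun g : G => ψ g from funext hg, regSum_inflate N hN] at hmem
  apply hψB
  have h2 : MemLocalIdeal M ((Brauer.regSum p ψ (fun _ => 1) / ψ 1) * (Nat.card N : ℂ)) := by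
    convert hmem using 1
    simp only [QuotientGroup.mk_one]; ring
  have h3 := Block.memLocalIdeal_mul_right h2
    (Block.memLocalRing_natCast_inv hM hN)
  rw [mul_assoc, mul_inv_cancel₀ (Nat.cast_ne_zero.mpr Nat.card_pos.ne'), mul_one] at h3
  exact h3

/-- A normal `p`-subgroup in the kernel of every `p'`-degree character lies in the derived
subgroup of a Sylow subgroup. -/
theorem le_commutator_of_kernels (Y : Subgroup G) [Y.Normal] (hY : IsPGroup p Y)
    (h : ∀ χ : IrrCharacter G, ¬ p ∣ charDegree (χ : G → ℂ) →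
      ∀ y ∈ Y, (χ : G → ℂ) y = (χ : G → ℂ) 1) (P : Sylow p G) :
    Y ≤ ⁅(P : Subgroup G), (P : Subgroup G)⁆ := by
  classical
  letI := Fintype.ofFinite G
  letI := Fintype.ofFinite (P : Subgroup G)
  intro y hy
  have hYP : Y ≤ P := hY.le_sylow_of_normal P
  by_contra hne
  set y₀ : (P : Subgroup G) := ⟨y, hYP hy⟩
  have hy₀ : Abelianization.of y₀ ≠ 1 := by
    intro h1
    apply hne
    have h2 : y₀ ∈ _root_.commutator (P : Subgroup G) := by
      rw [← Abelianization.ker_of]; exact h1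
    have h3 : ⁅(P : Subgroup G), (P : Subgroup G)⁆ =
        (_root_.commutator (P : Subgroup G)).map (P : Subgroup G).subtype := by
      rw [_root_.commutator, Subgroup.map_commutator, ← MonoidHom.range_eq_map,
        Subgroup.range_subtype]
    rw [h3]
    exact ⟨y₀, h2, rfl⟩
  haveI : NeZero ((Monoid.exponent (Abelianization (P : Subgroup G)) : ℕ) : ℂ) :=
    ⟨Nat.cast_ne_zero.mpr Monoid.exponent_ne_zero_of_finite⟩
  obtain ⟨φ, hφ⟩ := CommGroup.exists_apply_ne_one_of_hasEnoughRootsOfUnity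
    (Abelianization (P : Subgroup G)) ℂ hy₀
  set f : (P : Subgroup G) →* ℂˣ := φ.comp Abelianization.of with hfdef
  set lam : IrrCharacter (P : Subgroup G) := ⟨_, isIrrCharacter_monoidHom f⟩ with hlam
  have hind : IsCharacter G (Cfsg.indFun (P : Subgroup G) (lam : ↥(P : Subgroup G) → ℂ)) :=
    CharInd.isCharacter_indFun _ (isCharacter_of_irr lam.2)
  obtain ⟨m, hm, hm'⟩ := isCharacter_exists_coeff hind
  have hdeg : (P : Subgroup G).index = ∑ χ : IrrCharacter G, m χ * charDegree (χ : G → ℂ) := by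
    have h1 := congrFun hm 1
    rw [CharInd.indFun_one_apply, Finset.sum_apply,
      show (lam : ↥(P : Subgroup G) → ℂ) 1 = 1 by simp [lam], mul_one] at h1
    have h2 : ((P : Subgroup G).index : ℂ) =
        ((∑ χ : IrrCharacter G, m χ * charDegree (χ : G → ℂ) : ℕ) : ℂ) := by
      rw [h1, Nat.cast_sum]
      refine Finset.sum_congr rfl fun χ _ => ?_
      rw [Pi.smul_apply, nsmul_eq_mul, (BlockVal.irr_one_eq_charDegree χ).1, Nat.cast_mul]
    exact_mod_cast h2
  obtain ⟨χ, hχm, hχd⟩ : ∃ χ : IrrCharacter G, ¬ p ∣ m χ ∧ ¬ p ∣ charDegree (χ : G → ℂ) := by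
    by_contra hcon
    push Not at hcon
    refine P.not_dvd_index (hdeg ▸ Finset.dvd_sum fun χ _ => ?_)
    by_cases hmd : p ∣ m χ
    · exact hmd.mul_right _
    · exact (hcon χ hmd).mul_left _
  obtain ⟨ψ, hψ, hg⟩ := irr_exists_descend χ.2 Y (h χ hχd)
  have h0 : classInner (fun u : (P : Subgroup G) => (χ : G → ℂ) u)
      (lam : ↥(P : Subgroup G) → ℂ) = 0 := by
    have hval : ∀ u : (P : Subgroup G), (χ : G → ℂ) ((u * y₀ : (P : Subgroup G)) : G) =
        (χ : G → ℂ) (u : G) := by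
      intro u
      rw [hg, hg, Subgroup.coe_mul, QuotientGroup.mk_mul,
        show (y₀ : G) = y from rfl, (QuotientGroup.eq_one_iff y).mpr hy, mul_one]
    set S := ∑ u : (P : Subgroup G), (χ : G → ℂ) u * conj ((lam : ↥(P : Subgroup G) → ℂ) u) with hS
    have h1 : S = conj (f y₀ : ℂ) * S := by
      conv_lhs => rw [hS, ← Equiv.sum_comp (Equiv.mulRight y₀)]
      rw [hS, Finset.mul_sum]
      refine Finset.sum_congr rfl fun u _ => ?_
      simp only [Equiv.coe_mulRight, lam, map_mul, Units.val_mul, hval]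
      ring
    have h2 : conj (f y₀ : ℂ) ≠ 1 := by
      intro hc
      apply hφ
      refine Units.ext ?_
      have := congrArg conj hc
      rw [Complex.conj_conj, map_one] at this
      simpa [f] using this
    have hS0 : S = 0 := by
      by_contra hne
      exact h2 (mul_right_cancel₀ hne (by rw [one_mul]; exact h1.symm))
    rw [classInner, ← hS, hS0, mul_zero]
  have hmχ : m χ = 0 := by
    have h1 := hm' χ
    rw [CharInd.classInner_indFun_left _ _ (irr_isClassFunction χ.2), ← classInner_conj, h0,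
      map_zero] at h1
    exact_mod_cast h1.symm
  exact hχm (hmχ ▸ dvd_zero p)

/-- The same, relative to a normal `p'`-subgroup. -/
theorem le_commutator_of_kernels_over (X : Subgroup G) [X.Normal] (hX : ¬ p ∣ Nat.card X)
    (Y : Subgroup G) [Y.Normal] (hY : IsPGroup p Y)
    (h : ∀ χ : IrrCharacter G, (∀ x ∈ X, (χ : G → ℂ) x = (χ : G → ℂ) 1) →
      ¬ p ∣ charDegree (χ : G → ℂ) → ∀ y ∈ Y, (χ : G → ℂ) y = (χ : G → ℂ) 1)
    (P : Sylow p G) : Y ≤ ⁅(P : Subgroup G), (P : Subgroup G)⁆ := by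
  classical
  let π := QuotientGroup.mk' X
  have hπ : Function.Surjective π := QuotientGroup.mk'_surjective X
  haveI : (Y.map π).Normal := Subgroup.Normal.map ‹_› π hπ
  have hker : ∀ χ : IrrCharacter (G ⧸ X), ¬ p ∣ charDegree (χ : G ⧸ X → ℂ) →
      ∀ y ∈ Y.map π, (χ : G ⧸ X → ℂ) y = (χ : G ⧸ X → ℂ) 1 := by
    rintro χ hχ _ ⟨y, hy, rfl⟩
    have h1 := h ⟨fun g => (χ : G ⧸ X → ℂ) (π g), isIrrCharacter_comp χ.2 π hπ⟩
      (fun x hx => by
        show (χ : G ⧸ X → ℂ) (π x) = (χ : G ⧸ X → ℂ) (π 1)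
        rw [map_one, show π x = 1 from (QuotientGroup.eq_one_iff x).mpr hx])
      (by simpa [charDegree] using hχ) y hy
    simpa using h1
  have hle := le_commutator_of_kernels (Y.map π) (hY.map π) hker (P.mapSurjective hπ)
  rw [show ((P.mapSurjective hπ : Sylow p (G ⧸ X)) : Subgroup (G ⧸ X)) = (P : Subgroup G).map π
    from P.coe_mapSurjective hπ, ← Subgroup.map_commutator] at hle
  intro y hy
  obtain ⟨u, hu, hue⟩ := hle ⟨y, hy, rfl⟩
  have h1 : u⁻¹ * y ∈ X := QuotientGroup.eq.mp hue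
  have h2 : u⁻¹ * y ∈ (P : Subgroup G) := (P : Subgroup G).mul_mem
    ((P : Subgroup G).inv_mem (Subgroup.commutator_le_self _ hu)) (hY.le_sylow_of_normal P hy)
  obtain ⟨j, hj⟩ := IsPGroup.iff_orderOf.mp P.isPGroup' ⟨_, h2⟩
  rw [← Subgroup.orderOf_coe] at hj
  have hX' : orderOf (u⁻¹ * y) ∣ Nat.card X := by
    have := orderOf_dvd_natCard (⟨_, h1⟩ : X)
    rwa [← Subgroup.orderOf_coe] at this
  have h3 : u⁻¹ * y = 1 := orderOf_eq_one_iff.mp (Nat.eq_one_of_dvd_coprimes
    ((coprime_of_not_dvd hX).pow_left j) (hj ▸ dvd_rfl) hX')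
  rw [inv_mul_eq_one] at h3
  exact h3 ▸ hu

end Cfsg.Agent.BlockNilp
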